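import Groth.Agent.Sandwich.Resolve
import Groth.Agent.Birat.Basic

/-!
Resolution by normalized blow-ups: both directions.
-/

set_option autoImplicit false
set_option backward.isDefEq.respectTransparency false
set_option backward.isDefEq.respectTransparency.types false
set_option linter.style.haveILetI false

universe u

open CategoryTheory CategoryTheory.Limits AlgebraicGeometry TopologicalSpace

noncomputable section

namespace Groth.Agent.Sandwich

theorem isNormal_spec (A : Type u) [CommRing A] [IsDomain A] [IsIntegrallyClosed A] :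
    Pi1.IsNormalScheme (Spec (CommRingCat.of A)) := fun p => by
  letI : Algebra A ((Spec (CommRingCat.of A)).presheaf.stalk p) := (StructureSheaf.toStalk A p).hom.toAlgebra
  haveI : IsLocalization.AtPrime ((Spec (CommRingCat.of A)).presheaf.stalk p) p.asIdeal :=
    StructureSheaf.IsLocalization.to_stalk A p
  exact ⟨IsLocalization.isDomain_of_le_nonZeroDivisors ((Spec (CommRingCat.of A)).presheaf.stalk p)
      (Ideal.primeCompl_le_nonZeroDivisors p.asIdeal),
    isIntegrallyClosed_of_isLocalization _ p.asIdeal.primeCompl (Ideal.primeCompl_le_nonZeroDivisors _)⟩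

theorem resolve_spec (A : Type u) [CommRing A] [IsDomain A] [IsNoetherianRing A] [IsIntegrallyClosed A]
    (hdim : ringKrullDim A = 2) {R : Scheme.{u}} [IsIntegral R] (f : R ⟶ Spec (CommRingCat.of A)) [IsProper f]
    (hf : ∃ U : (Spec (CommRingCat.of A)).Opens, (U : Set (Spec (CommRingCat.of A))).Nonempty ∧ IsIso (f ∣_ U))
    (hreg : ∀ x : R, IsRegularLocalRing (R.presheaf.stalk x)) :
    ∃ (Xn : Scheme.{u}) (g : Xn ⟶ Spec (CommRingCat.of A)), Resolve.IsNormPtBlowupSeq g ∧ IsProper g ∧
      ∀ x : Xn, IsRegularLocalRing (Xn.presheaf.stalk x) := by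
  obtain ⟨Xn, g, hg, h⟩ := resolve (isNormal_spec A)
    (le_of_eq ((PrimeSpectrum.topologicalKrullDim_eq_ringKrullDim A).trans hdim)) f hreg hf
  exact ⟨Xn, g, hg.seq, hg.proper, h⟩

theorem forward (Y : Scheme.{u}) [IsIntegral Y] [IsNoetherian Y] (hdim : topologicalKrullDim Y ≤ 2)
    [QuasiCompact (Y.fromSpecStalk (genericPoint Y))] [QuasiSeparated (Y.fromSpecStalk (genericPoint Y))]
    {X : Scheme.{u}} (g : X ⟶ Y) (hres : ResolveCurve.IsResolution g) :
    ∃ (Xn : Scheme.{u}) (gn : Xn ⟶ Curv2.normalization Y), Resolve.IsNormPtBlowupSeq gn ∧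
      IsProper (gn ≫ Curv2.normalizationι Y) ∧ ∀ x : Xn, IsRegularLocalRing (Xn.presheaf.stalk x) := by
  obtain ⟨hp, hi, ⟨V, hV, hVi⟩, hreg⟩ := hres
  haveI := hp
  haveI := hi
  haveI hfin : IsFinite (Curv2.normalizationι Y) := ResolveCurve.isFinite_normalization_of_alteration Y g
    (ResolveCurve.isAlteration_of_resolution g ⟨hp, hi, ⟨V, hV, hVi⟩, hreg⟩) hreg
  haveI : IsIntegral (Curv2.normalization Y) := NormSmoothBC.isIntegral_normalization
  haveI : IsNoetherian (Curv2.normalization Y) := NormBlow.isNoetherian_of_proper (Curv2.normalizationι Y)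
  have hgen : g (genericPoint X) = genericPoint Y := StrictRat.map_genericPoint' g V hV
  obtain ⟨h, hh, -⟩ := NormUniv.existsUnique_lift (X := Y) g (fun z => (normal_of_regular hreg z).1)
    (fun z => ⟨genericPoint X, genericPoint_specializes z, hgen⟩) (fun z => (normal_of_regular hreg z).2)
  let h' : X ⟶ Curv2.normalization Y := h
  have hh' : h' ≫ Curv2.normalizationι Y = g := hh
  haveI : IsProper (h' ≫ Curv2.normalizationι Y) := hh'.symm ▸ hp
  haveI : IsProper h' := IsProper.of_comp h' (Curv2.normalizationι Y)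
  obtain ⟨V₁, hV₁, hV₁i⟩ := ResolveCurve.exists_iso_normalization Y
  have hW : ((V ⊓ V₁ : Y.Opens) : Set Y).Nonempty :=
    ⟨_, NormBlow.mem_of_nonempty hV, NormBlow.mem_of_nonempty hV₁⟩
  have hνi := PtBlow.isIso_restrict_le (Curv2.normalizationι Y) (inf_le_right : V ⊓ V₁ ≤ V₁) hV₁i
  have hhi := PtBlow.isIso_restrict_left hh' (V ⊓ V₁) (PtBlow.isIso_restrict_le g inf_le_left hVi) hνi
  obtain ⟨Xn, gn, hgn, hr⟩ := resolve NormSmoothBC.isNormal
    ((NormBlow.topologicalKrullDim_le_of_integral (Curv2.normalizationι Y)).trans hdim) h' hreg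
    ⟨_, PtBlow.nonempty_preimage hW hνi, hhi⟩
  haveI := hgn.proper
  exact ⟨Xn, gn, hgn.seq, inferInstance, hr⟩

theorem isIso_stalkMap_comp {A B C : Scheme.{u}} (f : A ⟶ B) (g : B ⟶ C) {a : A} {b : B} (hab : f a = b)
    (hf : IsIso (f.stalkMap a)) (hg : IsIso (g.stalkMap b)) : IsIso ((f ≫ g).stalkMap a) := by
  subst hab
  haveI := hf
  haveI := hg
  rw [Scheme.Hom.stalkMap_comp]
  infer_instance

/-- normalized blow-up sequences are generically isomorphisms -/
theorem seq_generic {Y X : Scheme.{u}} {g : Y ⟶ X} (hg : Resolve.IsNormPtBlowupSeq g) (hi : IsIntegral X) :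
    ∃ _ : IsIntegral Y, (haveI := hi; g (genericPoint Y) = genericPoint X) ∧ IsIso (g.stalkMap (genericPoint Y)) := by
  induction hg with
  | @iso Y' X' e =>
    haveI := hi
    haveI : IsIntegral Y' := by
      haveI : Nonempty Y' := ⟨e.inv (genericPoint X')⟩
      exact isIntegral_of_isOpenImmersion e.hom
    refine ⟨inferInstance, ?_, inferInstance⟩
    exact genericPoint_eq_of_isOpenImmersion e.hom
  | @step Z' Z X' _ _ _ b r z hz hb hr ih =>
    haveI := hi
    obtain ⟨hZ, hrη, hrs⟩ := ih hi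
    haveI := hZ
    have hsupp : ((Scheme.IdealSheafData.vanishingIdeal ⟨{z}, hz⟩).support : Set Z) = {z} := by
      rw [Scheme.IdealSheafData.coe_support_vanishingIdeal]
      rfl
    have hne : genericPoint Z ∈ (Scheme.IdealSheafData.vanishingIdeal ⟨{z}, hz⟩).support.compl := by
      show genericPoint Z ∉ ((Scheme.IdealSheafData.vanishingIdeal ⟨{z}, hz⟩).support : Set Z)
      rw [hsupp]
      intro he
      have he' : genericPoint Z = z := he
      have hall : ∀ y : Z, y = z := fun y => by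
        have h := (genericPoint_specializes y).mem_closed hz (show genericPoint Z ∈ ({z} : Set Z) from he)
        exact h
      have hbot : Scheme.IdealSheafData.vanishingIdeal ⟨{z}, hz⟩ = ⊥ :=
        Scheme.IdealSheafData.support_eq_top_iff.1 (Closeds.ext (by
          rw [hsupp]
          exact Set.eq_univ_of_forall hall))
      obtain ⟨U, hU, f, hf, hK⟩ := hb.1 (genericPoint Z')
      rw [hbot, Scheme.IdealSheafData.comap_bot, Scheme.IdealSheafData.ideal_bot] at hK
      have hf0 : f = 0 := Ideal.mem_bot.1 (by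
        have : f ∈ (⊥ : Ideal Γ(Z', U.1)) := by
          rw [show (⊥ : Ideal Γ(Z', U.1)) = Ideal.span {f} from hK]
          exact Ideal.mem_span_singleton_self f
        exact this)
      haveI : Nonempty U.1 := ⟨⟨_, hU⟩⟩
      exact nonZeroDivisors.ne_zero hf hf0
    haveI := BlowUpLib.isIso_restrict hb
    let U := (Scheme.IdealSheafData.vanishingIdeal ⟨{z}, hz⟩).support.compl
    obtain ⟨w, hw⟩ := (b ∣_ U).surjective ⟨genericPoint Z, hne⟩
    have hw' : b w.1 = genericPoint Z := (morphismRestrict_base_coe b U w).symm.trans (congrArg Subtype.val hw)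
    have hbη : b (genericPoint Z') = genericPoint Z := by
      have h := (genericPoint_specializes w.1).map b.continuous
      rw [hw'] at h
      exact (h.antisymm (genericPoint_specializes _)).eq
    have hbs : IsIso (b.stalkMap (genericPoint Z')) :=
      ((MorphismProperty.isomorphisms CommRingCat).arrow_mk_iso_iff
        (morphismRestrictStalkMap b U ⟨genericPoint Z', show b (genericPoint Z') ∈ U from hbη ▸ hne⟩)).1
        (inferInstance : IsIso ((b ∣_ U).stalkMap ⟨genericPoint Z', show b (genericPoint Z') ∈ U from hbη ▸ hne⟩))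
    refine ⟨NormSmoothBC.isIntegral_normalization, ?_, ?_⟩
    · rw [Scheme.Hom.comp_apply, Scheme.Hom.comp_apply, NormSmoothBC.ι_genericPoint, hbη, hrη]
    · refine isIso_stalkMap_comp _ _ NormSmoothBC.ι_genericPoint (NormChar.stalk_iso_normalization _) ?_
      exact isIso_stalkMap_comp _ _ hbη hbs hrs

/-- proper with isomorphic generic stalks is birational -/
theorem birational_of_stalk {X Y : Scheme.{u}} [IsIntegral X] [IsIntegral Y] [IsNoetherian Y] (G : X ⟶ Y) [IsProper G]
    (hη : G (genericPoint X) = genericPoint Y) (hs : IsIso (G.stalkMap (genericPoint X))) :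
    ∃ V : Y.Opens, (V : Set Y).Nonempty ∧ IsIso (G ∣_ V) := by
  haveI := hs
  obtain ⟨U', hxU', V', hyV', f', hf', -, -, hfac, -⟩ := Birat.exists_isIso_lfp G (𝟙 Y)
    (x := genericPoint X) (y := G (genericPoint X)) (G.stalkMap (genericPoint X))
    (by rw [Category.comp_id, Scheme.SpecMap_stalkMap_fromSpecStalk]) ⊤ trivial ⊤ trivial
  rw [Category.comp_id] at hfac
  have hfib : ∀ x : X, G x = G (genericPoint X) → x = genericPoint X := fun x hx =>
    (Birat.eq_of_specializes_of_isIso G (genericPoint_specializes x) hx).symm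
  have hcl : IsClosed (G '' ((U' : Set X)ᶜ)) := G.isClosedMap _ U'.isOpen.isClosed_compl
  let W : Y.Opens := V' ⊓ ⟨(G '' ((U' : Set X)ᶜ))ᶜ, hcl.isOpen_compl⟩
  have hW : (W : Set Y).Nonempty := ⟨G (genericPoint X), hyV', fun ⟨x, hx, hx'⟩ => hx ((hfib x hx') ▸ hxU')⟩
  refine ⟨W, hW, ?_⟩
  have hpre : G ⁻¹ᵁ W ≤ U' := fun x hx => by
    by_contra hn
    exact hx.2 ⟨x, hn, rfl⟩
  haveI := hf'
  haveI : IsOpenImmersion ((G ∣_ W) ≫ W.ι) := by
    rw [morphismRestrict_ι, ← Scheme.homOfLE_ι X hpre, Category.assoc, ← hfac]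
    infer_instance
  haveI : IsOpenImmersion (G ∣_ W) := IsOpenImmersion.of_comp (G ∣_ W) W.ι
  haveI : Surjective (G ∣_ W) := by
    refine ⟨fun w => ?_⟩
    obtain ⟨u, hu⟩ := f'.surjective ⟨w.1, w.2.1⟩
    have hGu : G (U'.ι u) = w.1 := by
      rw [← Scheme.Hom.comp_apply, ← hfac, Scheme.Hom.comp_apply, hu]
      rfl
    exact ⟨⟨U'.ι u, show G (U'.ι u) ∈ W from hGu ▸ w.2⟩, Subtype.ext (by simpa using hGu)⟩
  exact (isIso_iff_isOpenImmersion_and_surjective _).2 ⟨inferInstance, inferInstance⟩

theorem backward (Y : Scheme.{u}) [IsIntegral Y] [IsNoetherian Y]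
    [QuasiCompact (Y.fromSpecStalk (genericPoint Y))] [QuasiSeparated (Y.fromSpecStalk (genericPoint Y))]
    {Xn : Scheme.{u}} (g : Xn ⟶ Curv2.normalization Y) (hg : Resolve.IsNormPtBlowupSeq g)
    (hp : IsProper (g ≫ Curv2.normalizationι Y)) :
    IsIntegral Xn ∧ ∃ V : Y.Opens, (V : Set Y).Nonempty ∧ IsIso ((g ≫ Curv2.normalizationι Y) ∣_ V) := by
  haveI : IsIntegral (Curv2.normalization Y) := NormSmoothBC.isIntegral_normalization
  obtain ⟨hi, hη, hs⟩ := seq_generic hg inferInstance
  haveI := hi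
  haveI := hp
  refine ⟨hi, birational_of_stalk _ ?_ (isIso_stalkMap_comp _ _ hη hs (NormChar.stalk_iso_normalization _))⟩
  rw [Scheme.Hom.comp_apply, hη, NormSmoothBC.ι_genericPoint]

end Groth.Agent.Sandwich
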