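import Groth.Agent.NormBlow.Graph

/-!
Fibres of birational morphisms of surfaces have dimension at most one.
-/

set_option autoImplicit false
set_option backward.isDefEq.respectTransparency false
set_option backward.isDefEq.respectTransparency.types false
set_option linter.style.haveILetI false

universe u

open CategoryTheory CategoryTheory.Limits AlgebraicGeometry TopologicalSpace

noncomputable section

namespace Groth.Agent.Sandwich

/-- fibres of a morphism of an integral surface have dimension at most one when the fibre of the generic point is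
the generic point alone -/
theorem fiber_dim_le {X Y : Scheme.{u}} [IsIntegral X] (hdim : topologicalKrullDim X ≤ 2) (f : X ⟶ Y)
    (hgen : ∀ x, f x = f (genericPoint X) → x = genericPoint X) (y : Y) : topologicalKrullDim ↥(f.fiber y) ≤ 1 := by
  rw [Groth.Agent.CartierDim.topDim_eq, Order.krullDim_le_one_iff]
  intro p
  by_contra h
  simp only [not_or, not_isMin_iff, not_isMax_iff] at h
  obtain ⟨⟨a, hap⟩, ⟨b, hpb⟩⟩ := h
  have hemb := (f.fiberι y).isEmbedding
  have hlt : ∀ {s t : ↥(f.fiber y)}, s < t → f.fiberι y s < f.fiberι y t := fun {s t} hst =>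
    GrpField.lt_of_specializes ((show t ⤳ s from hst.le).map (f.fiberι y).continuous) fun e =>
      hst.ne (hemb.injective e).symm
  have hfy : ∀ s, f (f.fiberι y s) = y := fun s => by
    have : f.fiberι y s ∈ f ⁻¹' {y} := f.range_fiberι y ▸ Set.mem_range_self s
    exact this
  have hne : genericPoint X ≠ f.fiberι y b := fun e => by
    have h1 := hgen (f.fiberι y p) (by rw [hfy, e, hfy])
    exact (hlt hpb).ne (h1.trans e)
  have h1 := Order.coheight_add_one_le (hlt hap)
  have h2 := Order.coheight_add_one_le (hlt hpb)
  have h3 := Order.coheight_add_one_le (GrpField.lt_of_specializes (genericPoint_specializes (f.fiberι y b)) hne)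
  have h4 : Order.coheight (f.fiberι y a) ≤ 2 := by
    have h := (RegDual.ringKrullDim_stalk_le_topologicalKrullDim (f.fiberι y a)).trans hdim
    rw [ringKrullDim_stalk_eq_coheight] at h
    exact WithBot.coe_le_coe.1 h
  have h5 := ((add_le_add_left ((add_le_add_left h3 1).trans h2) 1).trans h1).trans h4
  have h6 : (3 : ℕ∞) ≤ 2 := le_trans (by rw [add_assoc, add_assoc]; exact le_add_self) h5
  exact absurd h6 (by decide)

theorem fiber_subsingleton_of_birational {X Y : Scheme.{u}} [IsIntegral X] [IsIntegral Y] (f : X ⟶ Y) [IsProper f]
    (V : Y.Opens) (hV : (V : Set Y).Nonempty) (hiso : IsIso (f ∣_ V)) (x : X) (hx : f x = f (genericPoint X)) :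
    x = genericPoint X := by
  haveI := hiso
  have hg : f (genericPoint X) ∈ V := by
    rw [StrictRat.map_genericPoint' f V hV]
    exact NormBlow.mem_of_nonempty hV
  exact congrArg Subtype.val ((f ∣_ V).homeomorph.injective (a₁ := ⟨x, show f x ∈ V from hx ▸ hg⟩)
    (a₂ := ⟨genericPoint X, hg⟩) (Subtype.ext (by simpa using hx)))

end Groth.Agent.Sandwich
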