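import Groth.Agent.PtBlow.Decomp
import Groth.Agent.H1Triv.Rel
import Groth.Agent.CurveRR.Easy
import Groth.Agent.TMul.Pullback
import Groth.Agent.TMul.AffineLocus
import Groth.Agent.TMul.AmpleCrit
import Groth.Agent.TMul.RelAmple
import Groth.Agent.QC.IdealMod
import Groth.Agent.S8914

/-!
On a regular surface with `H¹(O) = 0` over an affine base, the inverse image of a maximal ideal with
positive-dimensional fibre is invertible.
-/

set_option autoImplicit false
set_option backward.isDefEq.respectTransparency false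
set_option backward.isDefEq.respectTransparency.types false
set_option linter.style.haveILetI false
set_option maxHeartbeats 1000000

universe u

open CategoryTheory CategoryTheory.Limits AlgebraicGeometry TopologicalSpace
open Groth.Agent.QC (res res_res app_res)
open _root_.TMul (IsGen homOf val)

noncomputable section

namespace Groth.Agent.Sandwich

variable {X Z : Scheme.{u}}

theorem ideal_eq_top_of_disjoint (J : X.IdealSheafData) (V : X.affineOpens)
    (h : ∀ y ∈ V.1, y ∉ J.support) : J.ideal V = ⊤ := by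
  by_contra hne
  obtain ⟨p, hp, hle⟩ := Ideal.exists_le_maximal _ hne
  let P : PrimeSpectrum Γ(X, V.1) := ⟨p, hp.isPrime⟩
  have hy : V.2.fromSpec P ∈ V.1 := by
    rw [← SetLike.mem_coe, ← V.2.range_fromSpec]; exact ⟨_, rfl⟩
  refine h _ hy ((FittLib.mem_support_iff J V hy).2 ?_)
  rw [show V.2.primeIdealOf ⟨_, hy⟩ = P from V.2.fromSpec.isOpenEmbedding.injective (V.2.fromSpec_primeIdealOf _)]
  exact hle

theorem ι_smul (L : X.IdealSheafData) {U : X.Opens} (c : Γ(X, U)) (g : Γ(ClSub.idealMod L, U)) :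
    (show Γ(X, U) from (ClSub.idealModι L).app U (c • g)) = c * (show Γ(X, U) from (ClSub.idealModι L).app U g) :=
  (QC.appₗ (ClSub.idealModι L) U).map_smul c g

theorem ι_res (L : X.IdealSheafData) {V U : X.Opens} (h : V ≤ U) (g : Γ(ClSub.idealMod L, U)) :
    (show Γ(X, V) from (ClSub.idealModι L).app V (res _ h g)) =
      X.presheaf.map (homOfLE h).op (show Γ(X, U) from (ClSub.idealModι L).app U g) :=
  (app_res (ClSub.idealModι L) h g).symm

theorem ι_injective (L : X.IdealSheafData) (U : X.Opens) :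
    Function.Injective ((ClSub.idealModι L).app U) := by
  haveI : Mono (ClSub.idealModι L) := inferInstance
  exact QC.app_injective_of_mono (ClSub.idealModι L) U

variable (q : X ⟶ Z) (m : Ideal Γ(Z, ⊤)) (I : X.IdealSheafData)
  (hI : ∀ V : X.affineOpens, I.ideal V = m.map (q.appLE ⊤ V.1 le_top).hom)

theorem appLE_eq (V : X.Opens) (r : Γ(Z, ⊤)) :
    (q.appLE ⊤ V le_top).hom r = X.presheaf.map (homOfLE (le_top : V ≤ ⊤)).op (q.appTop r) := rfl

include hI in
/-- elements of `m` give global sections of every ideal containing `I` -/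
theorem exists_section {L : X.IdealSheafData} (hL : I ≤ L) (r : Γ(Z, ⊤)) (hr : r ∈ m) :
    ∃ t : Γ(ClSub.idealMod L, ⊤), (show Γ(X, ⊤) from (ClSub.idealModι L).app ⊤ t) = q.appTop r := by
  have h : L.subschemeι.app ⊤ (q.appTop r) = 0 := by
    refine L.subscheme.sheaf.eq_of_locally_eq' (fun z : L.subscheme => L.subschemeι ⁻¹ᵁ
        (exists_isAffineOpen_mem_and_subset (x := L.subschemeι z) (U := (⊤ : X.Opens)) trivial).choose)
      _ (fun z => homOfLE le_top) (fun z _ => Opens.mem_iSup.2 ⟨z,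
        (exists_isAffineOpen_mem_and_subset (x := L.subschemeι z) (U := (⊤ : X.Opens)) trivial).choose_spec.2.1⟩)
      _ _ fun z => ?_
    obtain ⟨hV, -, -⟩ := (exists_isAffineOpen_mem_and_subset (x := L.subschemeι z) (U := (⊤ : X.Opens)) trivial).choose_spec
    set V := (exists_isAffineOpen_mem_and_subset (x := L.subschemeι z) (U := (⊤ : X.Opens)) trivial).choose
    have hmem : (q.appLE ⊤ V le_top).hom r ∈ L.ideal ⟨V, hV⟩ := hL ⟨V, hV⟩ (hI ⟨V, hV⟩ ▸ Ideal.mem_map_of_mem _ hr)
    rw [← L.ker_subschemeι_app ⟨V, hV⟩, RingHom.mem_ker, appLE_eq] at hmem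
    have hnat := ConcreteCategory.congr_hom (L.subschemeι.naturality (homOfLE (le_top : V ≤ ⊤)).op) (q.appTop r)
    simp only [CommRingCat.comp_apply] at hnat
    refine (hnat.symm.trans hmem).trans ?_
    simp
  exact (QC.mem_range_idealModι L ⊤ _).2 h

include hI in
/-- near a point where `I = L` some element of `m` generates `L` -/
theorem exists_gen [IsIntegral X] {L : X.IdealSheafData} (hM : PicF.IsInvertible (ClSub.idealMod L)) (hL : I ≤ L)
    (γ : X) (U₀ : X.Opens) (hγ : γ ∈ U₀) (heq : ∀ V : X.affineOpens, V.1 ≤ U₀ → I.ideal V = L.ideal V) :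
    ∃ (t : Γ(ClSub.idealMod L, ⊤)), γ ∈ CohB1.genLocus _ (homOf t) := by
  obtain ⟨U, g, hγU, hg⟩ := TMul.exists_isGen hM γ
  obtain ⟨V, hV, hγV, hVle⟩ := exists_isAffineOpen_mem_and_subset (x := γ) (U := U ⊓ U₀) ⟨hγU, hγ⟩
  have hVU : V ≤ U := fun y hy => (hVle hy).1
  let g' := res (ClSub.idealMod L) hVU g
  have hg' : IsGen g' := hg.res hVU
  let e : Γ(X, V) := (ClSub.idealModι L).app V g'
  haveI : Nonempty V := ⟨⟨γ, hγV⟩⟩
  have he0 : e ≠ 0 := fun h => by
    have h0 : g' = 0 := ι_injective L V (h.trans (map_zero _).symm)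
    exact (one_ne_zero : (1 : Γ(X, V)) ≠ 0) ((hg' V le_rfl).1 (by simp [h0]))
  have heI : e ∈ I.ideal ⟨V, hV⟩ := by
    rw [heq ⟨V, hV⟩ fun y hy => (hVle hy).2]
    exact (QC.mem_range_idealModι_affine L ⟨V, hV⟩ e).1 ⟨g', rfl⟩
  let S : Set Γ(X, V) := {c | ∃ r ∈ m, (q.appLE ⊤ V le_top).hom r = c * e}
  have hle : I.ideal ⟨V, hV⟩ ≤ Ideal.span S * Ideal.span {e} := by
    rw [hI, Ideal.map_le_iff_le_comap]
    intro r hr
    obtain ⟨u, hu⟩ := (QC.mem_range_idealModι_affine L ⟨V, hV⟩ _).2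
      (hL ⟨V, hV⟩ (hI ⟨V, hV⟩ ▸ Ideal.mem_map_of_mem _ hr))
    obtain ⟨c, hc⟩ := (hg' V le_rfl).2 u
    simp only [QC.res_self] at hc
    have hce : (q.appLE ⊤ V le_top).hom r = c * e := by
      rw [← hu, ← hc]; exact ι_smul L c g'
    rw [Ideal.mem_comap, hce]
    exact Ideal.mul_mem_mul (Ideal.subset_span ⟨r, hr, hce⟩) (Ideal.mem_span_singleton_self e)
  obtain ⟨c₁, hc₁, hce⟩ := Ideal.mem_mul_span_singleton.1 (hle heI)
  have hc1 : c₁ = 1 := mul_right_cancel₀ he0 (hce.trans (one_mul e).symm)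
  subst hc1
  obtain ⟨c, ⟨r, hr, hrc⟩, hcu⟩ : ∃ c ∈ S, IsUnit (X.presheaf.germ V γ hγV c) := by
    by_contra hn
    push Not at hn
    have hle' : Ideal.span S ≤ (IsLocalRing.maximalIdeal (X.presheaf.stalk γ)).comap (X.presheaf.germ V γ hγV).hom :=
      Ideal.span_le.2 fun c hc => hn c hc
    have h1 := hle' hc₁
    rw [Ideal.mem_comap, map_one] at h1
    exact h1 isUnit_one
  obtain ⟨t, ht⟩ := exists_section q m I hI hL r hr
  refine ⟨t, (TMul.mem_genLocus_iff _).2 ⟨X.basicOpen c, (X.mem_basicOpen c γ hγV).2 hcu, ?_⟩⟩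
  rw [TMul.val_homOf]
  have htV : res (ClSub.idealMod L) (le_top : V ≤ ⊤) t = c • g' := ι_injective L V (by
    change (show Γ(X, V) from (ClSub.idealModι L).app V (res _ le_top t)) = _
    rw [ι_res, ht, ← appLE_eq, hrc]
    exact (ι_smul L c g').symm)
  rw [← res_res (ClSub.idealMod L) (X.basicOpen_le c) le_top, htV, QC.res_smul]
  exact TMul.isGen_smul (hg'.res _) (RingedSpace.isUnit_res_basicOpen _ c)

include hI in
/-- The core: `I = m O_X` is invertible. -/
theorem cartier_core [IsAffine Z] [IsNoetherian Z] [IsIntegral X] [IsNoetherian X] [IsProper q]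
    (hreg : ∀ x : X, IsRegularLocalRing (X.presheaf.stalk x)) (hdim : topologicalKrullDim X ≤ 2)
    (hd : ∀ y, topologicalKrullDim ↥((q ≫ Z.isoSpec.hom).fiber y) ≤ 1)
    (hO : Subsingleton (Coh.HH X (Coh.structureModule X) 1)) (hsurj : Function.Surjective q.appTop)
    [m.IsMaximal] (hI0 : I ≠ ⊥) (hsupp : ∃ γ ∈ (I.support : Set X), ¬ IsClosed ({γ} : Set X)) :
    BlowUp.IsEffCartierIdeal I := by
  obtain ⟨J, L, hJL, hL, hJfin, hJreg, -⟩ := PtBlow.exists_cartier_mul_finite X hreg hdim I hI0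
  have hM : PicF.IsInvertible (ClSub.idealMod L) := (Groth.Agent.S8914.result L).2 hL
  have hmul : ∀ V, I.ideal V = J.ideal V * L.ideal V := fun V => by
    rw [hJL, Scheme.IdealSheafData.ideal_mul, Pi.mul_apply]
  have hle : I ≤ L := fun V => (hmul V).le.trans Ideal.mul_le_right
  let U₀ : X.Opens := J.support.compl
  have heq : ∀ V : X.affineOpens, V.1 ≤ U₀ → I.ideal V = L.ideal V := fun V hV => by
    rw [hmul, ideal_eq_top_of_disjoint J V fun y hy => hV hy, ← Ideal.one_eq_top, one_mul]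
  letI : X.Over (Spec (CommRingCat.of Γ(Z, ⊤))) := ⟨q ≫ Z.isoSpec.hom⟩
  haveI : IsProper (X ↘ Spec (CommRingCat.of Γ(Z, ⊤))) := inferInstanceAs (IsProper (q ≫ Z.isoSpec.hom))
  haveI : IsNoetherianRing Γ(Z, ⊤) := IsLocallyNoetherian.component_noetherian ⟨⊤, isAffineOpen_top Z⟩
  have hnef : H1Triv.RelNef Γ(Z, ⊤) (ClSub.idealMod L) := by
    intro K _ i C t hCint hCdim ht
    haveI := hCint
    letI : C.subscheme.Over (Spec (CommRingCat.of K)) := ⟨t⟩
    haveI : IsProper (C.subscheme ↘ Spec (CommRingCat.of K)) := by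
      haveI : IsProper (t ≫ Spec.map (CommRingCat.ofHom i)) := by rw [ht]; infer_instance
      exact IsProper.of_comp t (Spec.map (CommRingCat.ofHom i))
    let ζ := genericPoint C.subscheme
    have hγ : C.subschemeι ζ ∈ U₀ := fun hmem => by
      have hcl := (hJreg _ hmem).closed
      have hall : ∀ z : C.subscheme, z = ζ := fun z => C.subschemeι.isClosedEmbedding.injective
        (((genericPoint_specializes z).map C.subschemeι.continuous).mem_closed hcl rfl)
      haveI : Subsingleton C.subscheme := ⟨fun a b => (hall a).trans (hall b).symm⟩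
      have h0 : topologicalKrullDim C.subscheme ≤ 0 := by
        rw [Groth.Agent.CartierDim.topDim_eq]
        exact Order.krullDim_nonpos_of_subsingleton
      rw [hCdim] at h0
      exact absurd h0 (by decide)
    obtain ⟨s, hs⟩ := exists_gen q m I hI hM hle _ U₀ hγ heq
    have hgl := TMul.genLocus_pullback C.subschemeι hM (homOf s) (PicLoc.pullbackStructureIso C.subschemeι).symm
    refine CurveRR.Easy.deg_nonneg hCdim.le (PicLoc.isInvertible_pullback _ hM)
      ((PicLoc.pullbackStructureIso C.subschemeι).symm.hom ≫ (Scheme.Modules.pullback C.subschemeι).map (homOf s))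
      fun h0 => ?_
    rw [h0, TMul.genLocus_zero] at hgl
    exact (show ζ ∈ C.subschemeι ⁻¹ᵁ CohB1.genLocus _ (homOf s) from hs) |> (hgl.ge ·) |> id
  obtain ⟨⟨κ, p, hp⟩, -⟩ := H1Triv.generated_and_h1_rel hd hO hM hnef
  haveI := hp
  have hgen : ∀ x : X, ∃ (a : Γ(Z, ⊤)) (t : Γ(ClSub.idealMod L, ⊤)) (W : X.affineOpens), x ∈ W.1 ∧
      (show Γ(X, ⊤) from (ClSub.idealModι L).app ⊤ t) = q.appTop a ∧
      IsGen (res (ClSub.idealMod L) (le_top : W.1 ≤ ⊤) t) := fun x => by
    obtain ⟨U, g, hxU, hg⟩ := TMul.exists_isGen hM x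
    obtain ⟨t, W, hxW, -, hW⟩ := TMul.exists_isGen_of_epi_free p hg hxU
    obtain ⟨W', hW', hxW', hW'le⟩ := exists_isAffineOpen_mem_and_subset (x := x) (U := W) hxW
    obtain ⟨a, ha⟩ := hsurj ((ClSub.idealModι L).app ⊤ t)
    refine ⟨a, t, ⟨W', hW'⟩, hxW', ha.symm, ?_⟩
    rw [← res_res (ClSub.idealMod L) (hW'le : W' ≤ W) le_top]
    exact hW.res _
  choose a t W hxW hta hW using hgen
  by_cases ham : ∀ x, a x ∈ m
  · have hLI : L = I := Scheme.IdealSheafData.ext_of_iSup_eq_top W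
      (eq_top_iff.2 fun x _ => Opens.mem_iSup.2 ⟨x, hxW x⟩) fun x => by
        refine le_antisymm (fun y hy => ?_) (hle (W x))
        obtain ⟨u, hu⟩ := (QC.mem_range_idealModι_affine L (W x) y).2 hy
        obtain ⟨c, hc⟩ := (hW x (W x).1 le_rfl).2 u
        simp only [QC.res_self] at hc
        have hy' : y = c * (q.appLE ⊤ (W x).1 le_top).hom (a x) := by
          rw [← hu, ← hc, appLE_eq, ← hta x, ← ι_res]
          exact ι_smul L c _
        rw [hy', hI]
        exact Ideal.mul_mem_left _ _ (Ideal.mem_map_of_mem _ (ham x))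
    exact hLI ▸ hL
  exfalso
  push Not at ham
  obtain ⟨x, hx⟩ := ham
  obtain ⟨c, i, hi, hci⟩ := Ideal.IsMaximal.exists_inv ‹m.IsMaximal› hx
  obtain ⟨t', ht'⟩ := exists_section q m I hI hle i hi
  have hone : (show Γ(X, ⊤) from (ClSub.idealModι L).app ⊤ (q.appTop c • t x + t')) = 1 := by
    rw [map_add]
    change (show Γ(X, ⊤) from (ClSub.idealModι L).app ⊤ (q.appTop c • t x)) +
      (show Γ(X, ⊤) from (ClSub.idealModι L).app ⊤ t') = 1
    rw [ι_smul, hta, ht', ← map_mul, ← map_add, hci, map_one]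
  obtain ⟨γ, hγ, hγc⟩ := hsupp
  have hIJ : I = J := Scheme.IdealSheafData.ext (funext fun V => by
    have h1 : L.ideal V = ⊤ := by
      rw [Ideal.eq_top_iff_one]
      refine (QC.mem_range_idealModι_affine L V 1).1 ⟨res (ClSub.idealMod L) le_top (q.appTop c • t x + t'), ?_⟩
      change (show Γ(X, V.1) from (ClSub.idealModι L).app V.1 _) = 1
      rw [ι_res, hone, map_one]
    rw [hmul, h1, ← Ideal.one_eq_top, mul_one])
  exact hγc (hJreg γ (hIJ ▸ hγ)).closed

end Groth.Agent.Sandwich
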