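import Groth.Agent.Sandwich.Vanish
import Groth.Agent.Sandwich.Max
import Groth.Agent.Sandwich.Dims
import Groth.Agent.NormBlow.Main

/-!
Maximal ideals of sandwiched normal surface points become invertible on the regular surface above.
-/

set_option autoImplicit false
set_option backward.isDefEq.respectTransparency false
set_option backward.isDefEq.respectTransparency.types false
set_option linter.style.haveILetI false
set_option maxHeartbeats 1000000

universe u

open CategoryTheory CategoryTheory.Limits AlgebraicGeometry TopologicalSpace Groth.Agent.SiteCoh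

noncomputable section

namespace Groth.Agent.Sandwich

theorem isNoetherian_open {X : Scheme.{u}} [IsNoetherian X] (U : X.Opens) : IsNoetherian U.toScheme := by
  haveI : CompactSpace U.toScheme := isCompact_iff_compactSpace.1 (NoetherianSpace.isCompact (U : Set X))
  haveI : IsLocallyNoetherian U.toScheme := isLocallyNoetherian_of_isOpenImmersion U.ι
  exact {}

theorem dim_open_le {X : Scheme.{u}} (hdim : topologicalKrullDim X ≤ 2) (U : X.Opens) :
    topologicalKrullDim U.toScheme ≤ 2 :=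
  NormBlow.topologicalKrullDim_le_of_stalks 2 (by norm_num) fun z => by
    rw [ringKrullDim_eq_of_ringEquiv (U.stalkIso z).commRingCatIsoToRingEquiv]
    exact (RegDual.ringKrullDim_stalk_le_topologicalKrullDim _).trans hdim

theorem app_restrict_bijective {X Y : Scheme.{u}} (q : X ⟶ Y) (h : ∀ U : Y.Opens, Function.Bijective (q.app U))
    (O : Y.Opens) (U : O.toScheme.Opens) : Function.Bijective ((q ∣_ O).app U) := by
  rw [← ConcreteCategory.isIso_iff_bijective]
  haveI := (ConcreteCategory.isIso_iff_bijective _).2 (h (O.ι ''ᵁ U))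
  rw [morphismRestrict_app]
  infer_instance

theorem h1_of_range_eq {P X : Scheme.{u}} (μ : P ⟶ X) [IsOpenImmersion μ] (U : X.Opens) (hμ : Set.range μ = U)
    (h : Subsingleton (Coh.HH P (Coh.structureModule P) 1)) :
    Subsingleton (Coh.HH U.toScheme (Coh.structureModule _) 1) :=
  PtBlow.subsingleton_h1_of_dominated (IsOpenImmersion.isoOfRangeEq μ U.ι (by rw [hμ, Scheme.Opens.range_ι])).hom
    (fun _ => ConcreteCategory.bijective_of_isIso _) h

theorem h1_open {X : Scheme.{u}} (U : X.Opens)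
    (h : Subsingleton (CohSite.HU (Coh.toAb (Coh.structureModule X)) 1 U)) :
    Subsingleton (Coh.HH U.toScheme (Coh.structureModule _) 1) := by
  obtain ⟨ψ⟩ := CohQC.hu_restrict (Coh.structureModule X) U 1
  exact CohQC.hh_subsingleton_of_iso (Scheme.Modules.restrictUnitIso U.ι) 1 (ψ.toEquiv.subsingleton_congr.1 h)

/-- the inverse image of a point with positive-dimensional fibre under `q : X' → Z` is invertible, when `X'` is
regular and a sequence of point blow-ups over some surface below `Z` -/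
theorem cartier_at {X' Z R : Scheme.{u}} [IsIntegral X'] [IsNoetherian X'] [IsIntegral Z] [IsNoetherian Z]
    [IsIntegral R] [IsNoetherian R] (hRn : Pi1.IsNormalScheme R) (hZn : Pi1.IsNormalScheme Z)
    (hreg : ∀ x : X', IsRegularLocalRing (X'.presheaf.stalk x)) (hdX : topologicalKrullDim X' ≤ 2)
    (hdZ : topologicalKrullDim Z ≤ 2) (q : X' ⟶ Z) [IsProper q] (h : Z ⟶ R) [IsProper h] (hs : PtBlow.Seq (q ≫ h))
    (hq : ∃ U : Z.Opens, (U : Set Z).Nonempty ∧ IsIso (q ∣_ U)) (hh : ∃ U : R.Opens, (U : Set R).Nonempty ∧ IsIso (h ∣_ U))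
    (c : Z) (hc : IsClosed ({c} : Set Z)) (hne : c ≠ genericPoint Z)
    (γ : X') (hγ : q γ = c) (hγc : ¬ IsClosed ({γ} : Set X')) :
    BlowUp.IsEffCartierIdeal ((Scheme.IdealSheafData.vanishingIdeal ⟨{c}, hc⟩).comap q) := by
  obtain ⟨Uq, hUq, hUqi⟩ := hq
  obtain ⟨Uh, hUh, hUhi⟩ := hh
  haveI := hUqi
  have hqbij := PtBlow.bijective_app_of_birational q hZn Uq hUq
  obtain ⟨hBfin, hBpts⟩ := PtBlow.compl_isoLocus q hZn hdZ ⟨Uq, hUq, hUqi⟩
  obtain ⟨V, hV, hcV, -⟩ := exists_isAffineOpen_mem_and_subset (x := h c) (U := (⊤ : R.Opens)) trivial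
  obtain ⟨W, hW, hcW, hWle⟩ := exists_isAffineOpen_mem_and_subset (x := c) (U := h ⁻¹ᵁ V) hcV
  have hWV : W ≤ h ⁻¹ᵁ V := fun z hz => hWle hz
  let O : Z.Opens := h ⁻¹ᵁ V
  haveI : IsNoetherianRing Γ(R, V) := IsLocallyNoetherian.component_noetherian ⟨V, hV⟩
  letI : O.toScheme.Over (Spec (CommRingCat.of Γ(R, V))) := ⟨(h ∣_ V) ≫ hV.isoSpec.hom⟩
  letI : (q ⁻¹ᵁ O).toScheme.Over (Spec (CommRingCat.of Γ(R, V))) := ⟨(q ∣_ O) ≫ (h ∣_ V) ≫ hV.isoSpec.hom⟩
  haveI : IsProper (h ∣_ V) := IsZariskiLocalAtTarget.restrict (P := @IsProper) ‹_› V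
  haveI : IsProper (q ∣_ O) := IsZariskiLocalAtTarget.restrict (P := @IsProper) ‹_› O
  haveI : IsProper (O.toScheme ↘ Spec (CommRingCat.of Γ(R, V))) :=
    inferInstanceAs (IsProper ((h ∣_ V) ≫ hV.isoSpec.hom))
  haveI : Nonempty O.toScheme := ⟨⟨c, hcV⟩⟩
  haveI : IsIntegral O.toScheme := inferInstance
  have hgenO : O.ι (genericPoint O.toScheme) = genericPoint Z := genericPoint_eq_of_isOpenImmersion O.ι
  have hd : ∀ y, topologicalKrullDim ↥((O.toScheme ↘ Spec (CommRingCat.of Γ(R, V))).fiber y) ≤ 1 :=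
    fiber_dim_le (dim_open_le hdZ O) _ fun x hx => by
      have hx' : (h ∣_ V) x = (h ∣_ V) (genericPoint O.toScheme) := hV.isoSpec.hom.homeomorph.injective hx
      refine O.ι.isOpenEmbedding.injective (Eq.trans ?_ hgenO.symm)
      refine fiber_subsingleton_of_birational h Uh hUh hUhi (O.ι x) ?_
      have h2 := congrArg V.ι hx'
      rw [← Scheme.Hom.comp_apply, ← Scheme.Hom.comp_apply, morphismRestrict_ι, Scheme.Hom.comp_apply,
        Scheme.Hom.comp_apply, hgenO] at h2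
      exact h2
  have hP : Subsingleton (Coh.HH (q ⁻¹ᵁ O).toScheme (Coh.structureModule _) 1) :=
    h1_open _ (seq_hu_vanish hs inferInstance hRn hV)
  have hWaff : IsAffineOpen (O.ι ⁻¹ᵁ W) :=
    hW.preimage_of_isOpenImmersion O.ι (by rw [Scheme.Opens.opensRange_ι]; exact hWV)
  have hB : (O.ι ⁻¹' (PtBlow.isoLocus q : Set Z)ᶜ).Finite :=
    hBfin.preimage O.ι.isOpenEmbedding.injective.injOn
  have hW1 := hu_preimage Γ(R, V) (q ∣_ O) rfl hd (app_restrict_bijective q hqbij O) hP _ hB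
    (fun b hb => by
      have h1 := ((hBpts _ hb).1).preimage O.ι.continuous
      convert h1 using 1
      ext z
      exact ⟨fun e => congrArg _ e, fun e => O.ι.isOpenEmbedding.injective e⟩)
    (fun U hU => by
      have hle : O.ι ''ᵁ U ≤ PtBlow.isoLocus q := by
        rintro _ ⟨z, hz, rfl⟩
        by_contra hn
        exact Set.disjoint_left.1 hU hz hn
      haveI : IsIso (q ∣_ O.ι ''ᵁ U) := PtBlow.isIso_restrict_le q hle (BiratCodimTwo.isIso_iSup q)
      exact ((MorphismProperty.isomorphisms Scheme.{u}).arrow_mk_iso_iff (morphismRestrictRestrict q O U)).2 ‹_›)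
    hWaff
  have hrange : Set.range (((q ∣_ O) ⁻¹ᵁ (O.ι ⁻¹ᵁ W)).ι ≫ (q ⁻¹ᵁ O).ι) = (q ⁻¹ᵁ W : Set X') := by
    have key : ∀ z : (q ⁻¹ᵁ O).toScheme, O.ι ((q ∣_ O) z) = q ((q ⁻¹ᵁ O).ι z) := fun z => by
      rw [← Scheme.Hom.comp_apply, morphismRestrict_ι, Scheme.Hom.comp_apply]
    ext x
    constructor
    · rintro ⟨z, rfl⟩
      show q ((q ⁻¹ᵁ O).ι z.1) ∈ W
      rw [← key]
      exact z.2
    · intro hx
      refine ⟨⟨⟨x, hWV hx⟩, ?_⟩, rfl⟩
      show O.ι ((q ∣_ O) ⟨x, hWV hx⟩) ∈ W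
      rw [key]
      exact hx
  have hO : Subsingleton (Coh.HH (q ⁻¹ᵁ W).toScheme (Coh.structureModule _) 1) :=
    h1_of_range_eq _ _ hrange (h1_open _ hW1)
  let Q := Scheme.IdealSheafData.vanishingIdeal ⟨{c}, hc⟩
  have hsupp : ∀ x : X', x ∈ (Q.comap q).support ↔ q x = c := fun x => by
    rw [Scheme.IdealSheafData.support_comap]
    show q x ∈ (Q.support : Set Z) ↔ _
    rw [show (Q.support : Set Z) = {c} by rw [Scheme.IdealSheafData.coe_support_vanishingIdeal]; rfl]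
    exact Set.mem_singleton_iff
  haveI : IsAffine W.toScheme := hW
  haveI : IsNoetherian W.toScheme := isNoetherian_open W
  haveI : IsNoetherian (q ⁻¹ᵁ W).toScheme := isNoetherian_open _
  haveI : IsProper (q ∣_ W) := IsZariskiLocalAtTarget.restrict (P := @IsProper) ‹_› W
  haveI : Nonempty (q ⁻¹ᵁ W).toScheme := ⟨⟨γ, show q γ ∈ W from hγ ▸ hcW⟩⟩
  haveI : IsIntegral (q ⁻¹ᵁ W).toScheme := inferInstance
  let Q' := Q.comap W.ι
  haveI hmax : (Q'.ideal ⟨⊤, isAffineOpen_top W.toScheme⟩).IsMaximal := by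
    have h1 : Q'.ideal ⟨⊤, isAffineOpen_top W.toScheme⟩ =
        (Q.ideal ⟨W, hW⟩).map (W.ι.appLE W ⊤ fun x _ => x.2).hom := FpqcDescent.ideal_comap_ι Q ⟨W, hW⟩
    have hmax' : (Q.ideal ⟨W, hW⟩).IsMaximal := by
      have e : Q.ideal ⟨W, hW⟩ = (hW.primeIdealOf ⟨c, hcW⟩).asIdeal := by
        ext r
        rw [NormBlow.mem_ideal_point c hc ⟨W, hW⟩ hcW r]
        letI := TopCat.Presheaf.algebra_section_stalk Z.presheaf (⟨c, hcW⟩ : W)
        exact @IsLocalization.AtPrime.to_map_mem_maximal_iff _ _ (Z.presheaf.stalk c) _ _ _ _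
          (hW.isLocalization_stalk ⟨c, hcW⟩) r inferInstance
      rw [e, ← PrimeSpectrum.isClosed_singleton_iff_isMaximal]
      have h2 : IsClosed (hW.fromSpec ⁻¹' ({c} : Set Z)) := hc.preimage hW.fromSpec.continuous
      have h3 : ({hW.primeIdealOf ⟨c, hcW⟩} : Set (PrimeSpectrum Γ(Z, W))) = hW.fromSpec ⁻¹' ({c} : Set Z) :=
        Set.ext fun p => ⟨fun h => by rw [Set.mem_singleton_iff.1 h]; exact hW.fromSpec_primeIdealOf ⟨c, hcW⟩,
          fun h => hW.fromSpec.isOpenEmbedding.injective (h.trans (hW.fromSpec_primeIdealOf ⟨c, hcW⟩).symm)⟩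
      rw [h3]
      exact h2
    rw [h1]
    exact Ideal.map_isMaximal_of_equiv (RingEquiv.ofBijective _ (FpqcDescent.bijective_ι_appLE ⟨W, hW⟩))
  have hI : ∀ U : (q ⁻¹ᵁ W).toScheme.affineOpens, ((Q.comap q).comap (q ⁻¹ᵁ W).ι).ideal U =
      (Q'.ideal ⟨⊤, isAffineOpen_top W.toScheme⟩).map ((q ∣_ W).appLE ⊤ U.1 le_top).hom := fun U => by
    rw [← Scheme.IdealSheafData.comap_comp, ← morphismRestrict_ι, Scheme.IdealSheafData.comap_comp]
    exact FpqcDescent.ideal_comap_appLE Q' (q ∣_ W) ⟨⊤, isAffineOpen_top W.toScheme⟩ U le_top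
  have hsuppW : ∀ x : (q ⁻¹ᵁ W).toScheme,
      x ∈ ((Q.comap q).comap (q ⁻¹ᵁ W).ι).support ↔ q ((q ⁻¹ᵁ W).ι x) = c := fun x => by
    rw [Scheme.IdealSheafData.support_comap]
    exact hsupp _
  have hcart := cartier_core (q ∣_ W) (Q'.ideal ⟨⊤, isAffineOpen_top W.toScheme⟩) ((Q.comap q).comap (q ⁻¹ᵁ W).ι) hI
    (fun x => haveI := hreg x.1; IsRegularLocalRing.of_ringEquiv ((q ⁻¹ᵁ W).stalkIso x).commRingCatIsoToRingEquiv.symm)
    (dim_open_le hdX _)
    (fiber_dim_le (dim_open_le hdX _) _ fun x hx => by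
      have hx' : (q ∣_ W) x = (q ∣_ W) (genericPoint (q ⁻¹ᵁ W).toScheme) := W.toScheme.isoSpec.hom.homeomorph.injective hx
      have hgen' : (q ⁻¹ᵁ W).ι (genericPoint (q ⁻¹ᵁ W).toScheme) = genericPoint X' :=
        genericPoint_eq_of_isOpenImmersion _
      refine (q ⁻¹ᵁ W).ι.isOpenEmbedding.injective (Eq.trans ?_ hgen'.symm)
      refine fiber_subsingleton_of_birational q Uq hUq hUqi _ ?_
      have h2 := congrArg W.ι hx'
      rw [← Scheme.Hom.comp_apply, ← Scheme.Hom.comp_apply, morphismRestrict_ι, Scheme.Hom.comp_apply,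
        Scheme.Hom.comp_apply, hgen'] at h2
      exact h2)
    hO ((app_restrict_bijective q hqbij W ⊤).2)
    (fun hbot => by
      have h1 : genericPoint (q ⁻¹ᵁ W).toScheme ∈ ((Q.comap q).comap (q ⁻¹ᵁ W).ι).support := by
        rw [hbot, Scheme.IdealSheafData.support_bot]; trivial
      rw [hsuppW, show (q ⁻¹ᵁ W).ι (genericPoint (q ⁻¹ᵁ W).toScheme) = genericPoint X' from
        genericPoint_eq_of_isOpenImmersion _, StrictRat.map_genericPoint' q Uq hUq] at h1
      exact hne h1.symm)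
    (by
      refine ⟨⟨γ, show q γ ∈ W from hγ ▸ hcW⟩, (hsuppW _).2 hγ, fun hcl => ?_⟩
      refine hγc (closure_eq_iff_isClosed.1 (Set.Subset.antisymm (fun w hw => ?_) subset_closure))
      have hw' : γ ⤳ w := specializes_iff_mem_closure.2 hw
      have hwc : q w = c := (hw'.map q.continuous).mem_closed hc hγ
      have h3 : (⟨γ, show q γ ∈ W from hγ ▸ hcW⟩ : (q ⁻¹ᵁ W).toScheme) ⤳ ⟨w, show q w ∈ W from hwc ▸ hcW⟩ :=
        (q ⁻¹ᵁ W).ι.isOpenEmbedding.toIsInducing.specializes_iff.1 hw'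
      exact congrArg Subtype.val (Set.mem_singleton_iff.1 (h3.mem_closed hcl (Set.mem_singleton _))))
  intro x
  by_cases hx : q x = c
  · obtain ⟨U, hxU, f, hf, hK⟩ := hcart ⟨x, show q x ∈ W from hx ▸ hcW⟩
    refine ⟨⟨(q ⁻¹ᵁ W).ι ''ᵁ U.1, U.2.image_of_isOpenImmersion _⟩, ⟨_, hxU, rfl⟩, ?_⟩
    rw [Scheme.IdealSheafData.ideal_comap_of_isOpenImmersion] at hK
    let e := ((q ⁻¹ᵁ W).ι.appIso U.1).symm.commRingCatIsoToRingEquiv
    have hb : Function.Bijective ((q ⁻¹ᵁ W).ι.appIso U.1).inv.hom := e.bijective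
    refine ⟨e f, ?_, ?_⟩
    · rw [mem_nonZeroDivisors_iff_right]
      intro z hz
      obtain ⟨z, rfl⟩ := e.surjective z
      rw [← map_mul, map_eq_zero_iff _ e.injective] at hz
      rw [(mem_nonZeroDivisors_iff_right.mp hf) z hz, map_zero]
    · refine (Ideal.map_comap_of_surjective _ hb.2 _).symm.trans ?_
      refine (congrArg (Ideal.map ((q ⁻¹ᵁ W).ι.appIso U.1).inv.hom) hK).trans ?_
      rw [Ideal.map_span, Set.image_singleton]
      rfl
  · have hO' : x ∈ (Q.comap q).support.compl := fun h => hx ((hsupp x).1 h)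
    obtain ⟨U, hU, hxU, hUle⟩ := exists_isAffineOpen_mem_and_subset (x := x) (U := (Q.comap q).support.compl) hO'
    refine ⟨⟨U, hU⟩, hxU, 1, one_mem _, ?_⟩
    rw [Ideal.span_singleton_one]
    exact ideal_eq_top_of_disjoint _ ⟨U, hU⟩ fun y hy => hUle hy

end Groth.Agent.Sandwich
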