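import Groth.Agent.Sandwich.Local
import Groth.Agent.PtBlow.RatMap
import Groth.Agent.RatLocal.Local
import Groth.Agent.ResolveCurve.Equiv
import Groth.Agent.Catenary.SerreNormal

/-!
Surfaces with a resolution are resolved by normalized point blow-ups.
-/

set_option autoImplicit false
set_option backward.isDefEq.respectTransparency false
set_option backward.isDefEq.respectTransparency.types false
set_option linter.style.haveILetI false
set_option maxHeartbeats 1000000

universe u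

open CategoryTheory CategoryTheory.Limits AlgebraicGeometry TopologicalSpace

noncomputable section

namespace Groth.Agent.Sandwich

theorem seq_birational {Y X : Scheme.{u}} {g : Y ⟶ X} (hg : PtBlow.Seq g) (hi : IsIntegral X)
    (hn : Pi1.IsNormalScheme X) : ∃ U : X.Opens, (U : Set X).Nonempty ∧ IsIso (g ∣_ U) := by
  induction hg with
  | id X => haveI := hi; exact ⟨⊤, ⟨genericPoint X, trivial⟩, inferInstance⟩
  | @step Y' Z' X' b r z hz hN hb hr ih =>
    haveI := hN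
    obtain ⟨hZi, hZn⟩ := hr.integral_normal hi hn
    haveI := hZi
    obtain ⟨U, hU, hUi⟩ := ih hi hn
    haveI := hUi
    haveI := BlowUpLib.isIso_restrict hb
    haveI : IsIntegral Y' := W7Fib.isIntegral_blowUp (PtBlow.pt_ne_bot hz) hb
    refine RatLocal.exists_isIso_comp b r (PtBlow.pt hz).support.compl U ⟨genericPoint Z', ?_⟩ hU
    show genericPoint Z' ∉ ((PtBlow.pt hz).support : Set Z')
    rw [PtBlow.coe_support_pt hz]
    exact PtBlow.genericPoint_ne hz

theorem seq_regular {Y X : Scheme.{u}} {g : Y ⟶ X} (hg : PtBlow.Seq g)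
    (hr : ∀ x : X, IsRegularLocalRing (X.presheaf.stalk x)) : ∀ y : Y, IsRegularLocalRing (Y.presheaf.stalk y) := by
  induction hg with
  | id X => exact hr
  | @step Y' Z' X' b r z hz hN hb _ ih =>
    haveI := hN
    exact PtBlow.isRegular_blowUp hz hb (ih hr)

theorem normal_of_regular {X : Scheme.{u}} (hr : ∀ x : X, IsRegularLocalRing (X.presheaf.stalk x)) :
    Pi1.IsNormalScheme X := fun x => by haveI := hr x; exact PtBlow.isNormal_of_regular

/-- with a resolution, all proper birational modifications have finite normalization -/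
theorem finNorm_of_resolution {X₀ R : Scheme.{u}} [IsIntegral X₀] [IsNoetherian X₀] [IsIntegral R]
    (hdim : topologicalKrullDim X₀ ≤ 2) (f : R ⟶ X₀) [IsProper f]
    (hreg : ∀ x : R, IsRegularLocalRing (R.presheaf.stalk x))
    (hf : ∃ V : X₀.Opens, (V : Set X₀).Nonempty ∧ IsIso (f ∣_ V)) : NormBlow.FinNorm X₀ := by
  intro T _ _ _ π hπ hbir
  haveI := hπ
  obtain ⟨V, hV, hVi⟩ := hf
  obtain ⟨V₁, hV₁, hV₁i⟩ := hbir
  haveI := NormBlow.isNoetherian_of_proper f
  haveI := NormBlow.isNoetherian_of_proper π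
  have hW : ((V ⊓ V₁ : X₀.Opens) : Set X₀).Nonempty :=
    ⟨_, NormBlow.mem_of_nonempty hV, NormBlow.mem_of_nonempty hV₁⟩
  haveI hfW : IsIso (f ∣_ (V ⊓ V₁)) := PtBlow.isIso_restrict_le f inf_le_left hVi
  haveI hπW : IsIso (π ∣_ (V ⊓ V₁)) := PtBlow.isIso_restrict_le π inf_le_right hV₁i
  have hne := PtBlow.nonempty_preimage hW hfW
  have hdR := NormBlow.dim_le_of_birational f V hV hVi (n := 2) (by norm_num) hdim
  obtain ⟨X', s, m, hs, hm, -⟩ := PtBlow.exists_morphism hreg hdR f π (f ⁻¹ᵁ (V ⊓ V₁)) hne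
    ((f ∣_ (V ⊓ V₁)) ≫ inv (π ∣_ (V ⊓ V₁)) ≫ (π ⁻¹ᵁ (V ⊓ V₁)).ι) (by
      have h : (π ⁻¹ᵁ (V ⊓ V₁)).ι ≫ π = (π ∣_ (V ⊓ V₁)) ≫ (V ⊓ V₁).ι := (morphismRestrict_ι π _).symm
      rw [Category.assoc, Category.assoc, h, IsIso.inv_hom_id_assoc, morphismRestrict_ι])
  obtain ⟨hX'i, -⟩ := hs.integral_normal inferInstance (normal_of_regular hreg)
  haveI := hX'i
  haveI := hs.isProper
  haveI : IsProper (m ≫ π) := hm ▸ inferInstance
  haveI : IsProper m := IsProper.of_comp m π
  obtain ⟨U, hU, hUi⟩ := seq_birational hs inferInstance (normal_of_regular hreg)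
  haveI := hUi
  obtain ⟨V₂, hV₂, hV₂i⟩ := RatLocal.exists_isIso_comp s f U (V ⊓ V₁) hU hW
  have hW₂ : ((V₂ ⊓ V₁ : X₀.Opens) : Set X₀).Nonempty :=
    ⟨_, NormBlow.mem_of_nonempty hV₂, NormBlow.mem_of_nonempty hV₁⟩
  have hmi := PtBlow.isIso_restrict_left hm (V₂ ⊓ V₁) (PtBlow.isIso_restrict_le _ inf_le_left hV₂i)
    (PtBlow.isIso_restrict_le π inf_le_right hV₁i)
  have hres : ResolveCurve.IsResolution m :=
    ⟨‹_›, hX'i, ⟨_, PtBlow.nonempty_preimage hW₂ (PtBlow.isIso_restrict_le π inf_le_right hV₁i), hmi⟩,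
      seq_regular hs hreg⟩
  exact ResolveCurve.isFinite_normalization_of_alteration T m (ResolveCurve.isAlteration_of_resolution m hres)
    hres.2.2.2

/-- a birational proper morphism onto a normal scheme is an isomorphism on stalks at points with finite closed fibre -/
theorem regular_of_all_closed {X' Z : Scheme.{u}} [IsIntegral X'] [IsNoetherian X'] [IsIntegral Z] [IsNoetherian Z]
    (hZn : Pi1.IsNormalScheme Z) (hreg : ∀ x : X', IsRegularLocalRing (X'.presheaf.stalk x)) (q : X' ⟶ Z) [IsProper q]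
    (Uq : Z.Opens) (hUq : (Uq : Set Z).Nonempty) (hiso : IsIso (q ∣_ Uq)) (c : Z) (hc : IsClosed ({c} : Set Z))
    (hall : ∀ γ, q γ = c → IsClosed ({γ} : Set X')) : IsRegularLocalRing (Z.presheaf.stalk c) := by
  haveI := hiso
  obtain ⟨γ, hγ⟩ : c ∈ Set.range q := by
    have hmem : genericPoint Z ∈ Set.range q := ⟨_, StrictRat.map_genericPoint' q Uq hUq⟩
    exact q.isClosedMap.isClosed_range.closure_subset_iff.2 (Set.singleton_subset_iff.2 hmem)
      (specializes_iff_mem_closure.1 (genericPoint_specializes c))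
  subst hγ
  have hfin : (q ⁻¹' {q γ}).Finite :=
    PtBlow.finite_of_isClosed_singletons (hc.preimage q.continuous) fun z hz => hall z hz
  haveI : Finite ↥(q.fiber (q γ)) := by
    haveI := hfin.to_subtype
    exact Finite.of_injective (fun p => (⟨q.fiberι (q γ) p, q.range_fiberι (q γ) ▸ Set.mem_range_self p⟩ : q ⁻¹' {q γ}))
      fun a b h => (q.fiberι (q γ)).isEmbedding.injective (congrArg Subtype.val h)
  haveI : T1Space ↥(q.fiber (q γ)) := ⟨fun p => by
    have h2 := (hall (q.fiberι (q γ) p) (show q.fiberι (q γ) p ∈ q ⁻¹' {q γ} from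
      q.range_fiberι (q γ) ▸ Set.mem_range_self p)).preimage (q.fiberι (q γ)).continuous
    convert h2 using 1
    ext p'
    exact ⟨fun h => congrArg _ h, fun h => (q.fiberι (q γ)).isEmbedding.injective h⟩⟩
  have hqf : q.QuasiFiniteAt γ :=
    Scheme.Hom.quasiFiniteAt_iff_isOpen_singleton_asFiber.2 (isOpen_discrete _)
  obtain ⟨W, hγW, hW⟩ := Purity.exists_isOpenImmersion_of_quasiFiniteAt q (fun z => (hZn z).2)
    ⟨q ⁻¹ᵁ Uq, PtBlow.nonempty_preimage hUq hiso, by rw [← morphismRestrict_ι q Uq]; infer_instance⟩ γ hqf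
  haveI := hW
  have h1 : IsIso ((W.ι ≫ q).stalkMap ⟨γ, hγW⟩) := inferInstance
  rw [Scheme.Hom.stalkMap_comp] at h1
  haveI : IsIso (q.stalkMap γ) :=
    @IsIso.of_isIso_comp_right _ _ _ _ _ (q.stalkMap (W.ι ⟨γ, hγW⟩)) (W.ι.stalkMap ⟨γ, hγW⟩) inferInstance h1
  haveI := hreg γ
  exact IsRegularLocalRing.of_ringEquiv (asIso (q.stalkMap γ)).commRingCatIsoToRingEquiv.symm

/-- the loop -/
theorem exists_regular_stage {X₀ R : Scheme.{u}} [IsIntegral X₀] [IsNoetherian X₀] [IsIntegral R] [IsNoetherian R]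
    (hdim : topologicalKrullDim X₀ ≤ 2) (hF : NormBlow.FinNorm X₀) (f : R ⟶ X₀) [IsProper f]
    (hRn : Pi1.IsNormalScheme R) {X' : Scheme.{u}} [IsIntegral X'] [IsNoetherian X']
    (hreg : ∀ x : X', IsRegularLocalRing (X'.presheaf.stalk x)) (hdX : topologicalKrullDim X' ≤ 2) :
    ∀ (n : ℕ) (Z : Scheme.{u}) (g : Z ⟶ X₀) (h : Z ⟶ R) (q : X' ⟶ Z), NormBlow.Good g → IsProper h → h ≫ f = g →
      (∃ U : R.Opens, (U : Set R).Nonempty ∧ IsIso (h ∣_ U)) → IsProper q → PtBlow.Seq (q ≫ h) →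
      (∃ U : Z.Opens, (U : Set Z).Nonempty ∧ IsIso (q ∣_ U)) →
      {γ : X' | ¬ IsClosed ({γ} : Set X') ∧ IsClosed ({q γ} : Set Z)}.Finite →
      {γ : X' | ¬ IsClosed ({γ} : Set X') ∧ IsClosed ({q γ} : Set Z)}.ncard ≤ n →
      ∃ (Xn : Scheme.{u}) (gn : Xn ⟶ X₀), NormBlow.Good gn ∧ ∀ x : Xn, IsRegularLocalRing (Xn.presheaf.stalk x) := by
  intro n
  induction n using Nat.strong_induction_on with
  | _ n ih =>
    intro Z g h q hg hhp hhf hhb hqp hs hqb hfin hn
    haveI := hg.int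
    haveI := hg.noeth
    haveI := hg.proper
    haveI := hhp
    haveI := hqp
    by_cases hall : ∀ x : Z, IsRegularLocalRing (Z.presheaf.stalk x)
    · exact ⟨Z, g, hg, hall⟩
    push Not at hall
    obtain ⟨c, hcsing⟩ := hall
    obtain ⟨V₀, hV₀, hV₀i⟩ := hg.bir
    have hdZ : topologicalKrullDim Z ≤ 2 := NormBlow.dim_le_of_birational g V₀ hV₀ hV₀i (by norm_num) hdim
    haveI := (hg.normal c).1
    haveI := (hg.normal c).2
    have hc : IsClosed ({c} : Set Z) := by
      by_contra hcl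
      exact hcsing (Catenary.isRegularLocalRing_of_normal (NormBlow.dim_le_one_of_not_isClosed hdZ hcl))
    have hne : c ≠ genericPoint Z := fun e => hcsing (by
      refine Catenary.isRegularLocalRing_of_normal ?_
      subst e
      exact (ringKrullDim_eq_zero_of_field Z.functionField).le.trans zero_le_one)
    obtain ⟨Uq, hUq, hUqi⟩ := hqb
    have hgenq : q (genericPoint X') = genericPoint Z := StrictRat.map_genericPoint' q Uq hUq
    obtain ⟨γ₀, hγ₀, hγ₀c⟩ : ∃ γ, q γ = c ∧ ¬ IsClosed ({γ} : Set X') := by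
      by_contra hno
      push Not at hno
      exact hcsing (regular_of_all_closed hg.normal hreg q Uq hUq hUqi c hc hno)
    have hcart := cartier_at hRn hg.normal hreg hdX hdZ q h hs ⟨Uq, hUq, hUqi⟩ hhb c hc hne γ₀ hγ₀ hγ₀c
    obtain ⟨W, r, hr, hrp, hdiv, hfac⟩ := NormBlow.exists_step hF hg c hc hne
    haveI := hrp
    haveI := hr.int
    haveI := hr.noeth
    obtain ⟨q', hq'⟩ := hfac X' (normal_of_regular hreg) q hgenq hcart
    haveI : IsProper (q' ≫ r) := hq'.symm ▸ hqp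
    haveI : IsProper q' := IsProper.of_comp q' r
    obtain ⟨V₁, hV₁, hV₁i⟩ := hr.bir
    have hV : ((V₀ ⊓ V₁ : X₀.Opens) : Set X₀).Nonempty :=
      ⟨_, NormBlow.mem_of_nonempty hV₀, NormBlow.mem_of_nonempty hV₁⟩
    have hgi := PtBlow.isIso_restrict_le g (inf_le_left : V₀ ⊓ V₁ ≤ V₀) hV₀i
    have hri := PtBlow.isIso_restrict_left (h := r) (f := g) rfl (V₀ ⊓ V₁)
      (PtBlow.isIso_restrict_le (r ≫ g) inf_le_right hV₁i) hgi
    have hne₀ := PtBlow.nonempty_preimage hV hgi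
    have hU₁ : ((g ⁻¹ᵁ (V₀ ⊓ V₁) ⊓ Uq : Z.Opens) : Set Z).Nonempty :=
      ⟨_, NormBlow.mem_of_nonempty hne₀, NormBlow.mem_of_nonempty hUq⟩
    have hri' := PtBlow.isIso_restrict_le r (inf_le_left : g ⁻¹ᵁ (V₀ ⊓ V₁) ⊓ Uq ≤ _) hri
    have hq'b := PtBlow.isIso_restrict_left hq' _
      (PtBlow.isIso_restrict_le q (inf_le_right : g ⁻¹ᵁ (V₀ ⊓ V₁) ⊓ Uq ≤ Uq) hUqi) hri'
    have hne' := PtBlow.nonempty_preimage hU₁ hri'
    have hqγ : ∀ γ, r (q' γ) = q γ := fun γ => by rw [← Scheme.Hom.comp_apply, hq']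
    have hsub : {γ : X' | ¬ IsClosed ({γ} : Set X') ∧ IsClosed ({q' γ} : Set W)} ⊆
        {γ : X' | ¬ IsClosed ({γ} : Set X') ∧ IsClosed ({q γ} : Set Z)} := fun γ ⟨h1, h2⟩ => ⟨h1, by
      rw [← hqγ, ← Set.image_singleton]
      exact r.isClosedMap _ h2⟩
    -- a curve appearing on the new stage
    have hrgen : r (genericPoint W) = genericPoint Z :=
      @StrictRat.map_genericPoint' _ _ _ _ r _ _ hU₁ hri'
    have hdW : topologicalKrullDim W ≤ 2 :=
      NormBlow.dim_le_of_birational r _ hU₁ hri' (by norm_num) hdZ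
    obtain ⟨ω, hωc, hωcl⟩ : ∃ ω : W, r ω = c ∧ ¬ IsClosed ({ω} : Set W) := by
      by_contra hno
      push Not at hno
      have hri'' := hri'
      obtain ⟨y, hy⟩ : c ∈ Set.range r :=
        r.isClosedMap.isClosed_range.closure_subset_iff.2 (Set.singleton_subset_iff.2 ⟨_, hrgen⟩)
          (specializes_iff_mem_closure.1 (genericPoint_specializes c))
      obtain ⟨s, hsu, hsdiv⟩ := hdiv y hy
      haveI : IsIso (r.stalkMap y) := by
        subst hy
        have hfin : (r ⁻¹' {r y}).Finite :=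
          PtBlow.finite_of_isClosed_singletons (hc.preimage r.continuous) fun z hz => hno z hz
        haveI : Finite ↥(r.fiber (r y)) := by
          haveI := hfin.to_subtype
          exact Finite.of_injective
            (fun p => (⟨r.fiberι (r y) p, r.range_fiberι (r y) ▸ Set.mem_range_self p⟩ : r ⁻¹' {r y}))
            fun a b h => (r.fiberι (r y)).isEmbedding.injective (congrArg Subtype.val h)
        haveI : T1Space ↥(r.fiber (r y)) := ⟨fun p => by
          have h2 := (hno (r.fiberι (r y) p) (show r.fiberι (r y) p ∈ r ⁻¹' {r y} from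
            r.range_fiberι (r y) ▸ Set.mem_range_self p)).preimage (r.fiberι (r y)).continuous
          convert h2 using 1
          ext p'
          exact ⟨fun h => congrArg _ h, fun h => (r.fiberι (r y)).isEmbedding.injective h⟩⟩
        have hqf : r.QuasiFiniteAt y :=
          Scheme.Hom.quasiFiniteAt_iff_isOpen_singleton_asFiber.2 (isOpen_discrete _)
        haveI := hri'
        obtain ⟨O, hyO, hO⟩ := Purity.exists_isOpenImmersion_of_quasiFiniteAt r (fun z => (hg.normal z).2)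
          ⟨_, hne', by rw [← morphismRestrict_ι r]; infer_instance⟩ y hqf
        haveI := hO
        have h1 : IsIso ((O.ι ≫ r).stalkMap ⟨y, hyO⟩) := inferInstance
        rw [Scheme.Hom.stalkMap_comp] at h1
        exact @IsIso.of_isIso_comp_right _ _ _ _ _ (r.stalkMap (O.ι ⟨y, hyO⟩)) (O.ι.stalkMap ⟨y, hyO⟩) inferInstance h1
      subst hy
      let e := (asIso (r.stalkMap y)).commRingCatIsoToRingEquiv
      have hprin : IsLocalRing.maximalIdeal (Z.presheaf.stalk (r y)) ≤ Ideal.span {e.symm s} := fun a ha => by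
        obtain ⟨d, hd⟩ := hsdiv a ha
        exact Ideal.mem_span_singleton.2 ⟨e.symm d, e.injective (by
          rw [map_mul, e.apply_symm_apply, e.apply_symm_apply]; exact hd)⟩
      have hmax : IsLocalRing.maximalIdeal (Z.presheaf.stalk (r y)) = Ideal.span {e.symm s} :=
        le_antisymm hprin ((Ideal.span_singleton_le_iff_mem _).2 fun hu => hsu (by
          have := hu.map e
          rwa [e.apply_symm_apply] at this))
      refine hcsing (Catenary.isRegularLocalRing_of_normal ?_)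
      have h1 := IsLocalRing.maximalIdeal_height_eq_ringKrullDim (R := Z.presheaf.stalk (r y))
      rw [← h1]
      have h2 : (IsLocalRing.maximalIdeal (Z.presheaf.stalk (r y))).height ≤ 1 := by
        haveI : (IsLocalRing.maximalIdeal (Z.presheaf.stalk (r y))).IsPrincipal := ⟨⟨e.symm s, hmax⟩⟩
        exact Ideal.height_le_one_of_isPrincipal_of_mem_minimalPrimes
          (IsLocalRing.maximalIdeal (Z.presheaf.stalk (r y))) (IsLocalRing.maximalIdeal (Z.presheaf.stalk (r y)))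
          (by rw [Ideal.minimalPrimes_eq_subsingleton_self]; rfl)
      exact WithBot.coe_le_coe.2 h2
    obtain ⟨γ₁, hγ₁⟩ : ω ∈ Set.range q' := by
      have hmem : genericPoint W ∈ Set.range q' := ⟨_, @StrictRat.map_genericPoint' _ _ _ _ q' _ _ hne' hq'b⟩
      exact q'.isClosedMap.isClosed_range.closure_subset_iff.2 (Set.singleton_subset_iff.2 hmem)
        (specializes_iff_mem_closure.1 (genericPoint_specializes ω))
    have hlt : {γ : X' | ¬ IsClosed ({γ} : Set X') ∧ IsClosed ({q' γ} : Set W)}.ncard <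
        {γ : X' | ¬ IsClosed ({γ} : Set X') ∧ IsClosed ({q γ} : Set Z)}.ncard := by
      refine Set.ncard_lt_ncard ⟨hsub, fun hsup => ?_⟩ hfin
      have hmem : γ₁ ∈ {γ : X' | ¬ IsClosed ({γ} : Set X') ∧ IsClosed ({q γ} : Set Z)} :=
        ⟨fun hcl => hωcl (by rw [← hγ₁, ← Set.image_singleton]; exact q'.isClosedMap _ hcl),
          by rw [← hqγ, hγ₁, hωc]; exact hc⟩
      exact hωcl (hγ₁ ▸ (hsup hmem).2)
    haveI : IsProper (r ≫ h) := inferInstance
    refine ih _ (lt_of_lt_of_le hlt hn) W (r ≫ g) (r ≫ h) q' hr inferInstance (by rw [Category.assoc, hhf]) ?_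
      inferInstance (by rw [← Category.assoc, hq']; exact hs) ⟨_, hne', hq'b⟩ (hfin.subset hsub) le_rfl
    obtain ⟨Uh, hUh, hUhi⟩ := hhb
    haveI := hUhi
    haveI := hri'
    exact RatLocal.exists_isIso_comp r h _ Uh hU₁ hUh

/-- A normal surface with a resolution is resolved by normalized point blow-ups. -/
theorem resolve {X₀ R : Scheme.{u}} [IsIntegral X₀] [IsNoetherian X₀] (hn : Pi1.IsNormalScheme X₀)
    (hdim : topologicalKrullDim X₀ ≤ 2) [IsIntegral R] (f : R ⟶ X₀) [IsProper f]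
    (hreg : ∀ x : R, IsRegularLocalRing (R.presheaf.stalk x))
    (hf : ∃ V : X₀.Opens, (V : Set X₀).Nonempty ∧ IsIso (f ∣_ V)) :
    ∃ (Xn : Scheme.{u}) (g : Xn ⟶ X₀), NormBlow.Good g ∧ ∀ x : Xn, IsRegularLocalRing (Xn.presheaf.stalk x) := by
  haveI := NormBlow.isNoetherian_of_proper f
  have hF := finNorm_of_resolution hdim f hreg hf
  have hRn := normal_of_regular hreg
  obtain ⟨Z, g, h, hg, hh⟩ := NormBlow.dominate hn hF hdim f hRn hf
  obtain ⟨V, hV, hVi⟩ := hf
  haveI := hg.int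
  haveI := hg.noeth
  haveI := hg.proper
  haveI : IsProper (h ≫ f) := hh.symm ▸ inferInstance
  haveI : IsProper h := IsProper.of_comp h f
  obtain ⟨V₀, hV₀, hV₀i⟩ := hg.bir
  have hW : ((V ⊓ V₀ : X₀.Opens) : Set X₀).Nonempty :=
    ⟨_, NormBlow.mem_of_nonempty hV, NormBlow.mem_of_nonempty hV₀⟩
  have hfi := PtBlow.isIso_restrict_le f (inf_le_left : V ⊓ V₀ ≤ V) hVi
  have hhi := PtBlow.isIso_restrict_left hh (V ⊓ V₀) (PtBlow.isIso_restrict_le g inf_le_right hV₀i) hfi
  have hUR := PtBlow.nonempty_preimage hW hfi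
  haveI := hhi
  have hdR := NormBlow.dim_le_of_birational f V hV hVi (n := 2) (by norm_num) hdim
  obtain ⟨X', s, q, hs, hq, -⟩ := PtBlow.exists_morphism hreg hdR (𝟙 R) h (f ⁻¹ᵁ (V ⊓ V₀)) hUR
    (inv (h ∣_ f ⁻¹ᵁ (V ⊓ V₀)) ≫ (h ⁻¹ᵁ (f ⁻¹ᵁ (V ⊓ V₀))).ι) (by
      rw [Category.assoc, ← morphismRestrict_ι, IsIso.inv_hom_id_assoc, Category.comp_id])
  rw [Category.comp_id] at hq
  obtain ⟨hX'i, -⟩ := hs.integral_normal inferInstance hRn
  haveI := hX'i
  haveI := hs.isNoetherian ‹_›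
  haveI := hs.isProper
  haveI : IsProper (q ≫ h) := hq.symm ▸ inferInstance
  haveI : IsProper q := IsProper.of_comp q h
  obtain ⟨U, hU, hUi⟩ := seq_birational hs inferInstance hRn
  have hdX : topologicalKrullDim X' ≤ 2 := NormBlow.dim_le_of_birational s U hU hUi (by norm_num) hdR
  have hW' : ((U ⊓ f ⁻¹ᵁ (V ⊓ V₀) : R.Opens) : Set R).Nonempty :=
    ⟨_, NormBlow.mem_of_nonempty hU, NormBlow.mem_of_nonempty hUR⟩
  have hhi' := PtBlow.isIso_restrict_le h (inf_le_right : U ⊓ f ⁻¹ᵁ (V ⊓ V₀) ≤ _) hhi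
  have hqi := PtBlow.isIso_restrict_left hq _ (PtBlow.isIso_restrict_le s (inf_le_left : U ⊓ f ⁻¹ᵁ (V ⊓ V₀) ≤ U) hUi) hhi'
  have hUq := PtBlow.nonempty_preimage hW' hhi'
  have hfin : {γ : X' | ¬ IsClosed ({γ} : Set X') ∧ IsClosed ({q γ} : Set Z)}.Finite := by
    refine (NormBlow.finite_not_closed hdX (q ⁻¹ᵁ (h ⁻¹ᵁ (U ⊓ f ⁻¹ᵁ (V ⊓ V₀))))
      (PtBlow.nonempty_preimage hUq hqi)).subset fun γ ⟨h1, h2⟩ => ⟨fun hmem => h1 ?_, h1⟩
    haveI := hqi
    refine closure_eq_iff_isClosed.1 (Set.Subset.antisymm (fun w hw => ?_) subset_closure)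
    have hsp : γ ⤳ w := specializes_iff_mem_closure.2 hw
    have hqw : q w = q γ := (hsp.map q.continuous).mem_closed h2 rfl
    exact congrArg Subtype.val ((q ∣_ h ⁻¹ᵁ (U ⊓ f ⁻¹ᵁ (V ⊓ V₀))).homeomorph.injective
      (a₁ := ⟨w, show q w ∈ h ⁻¹ᵁ (U ⊓ f ⁻¹ᵁ (V ⊓ V₀)) from hqw ▸ hmem⟩) (a₂ := ⟨γ, hmem⟩)
      (Subtype.ext (by simpa using hqw)))
  exact exists_regular_stage hdim hF f hRn (seq_regular hs hreg) hdX _ Z g h q hg inferInstance hh
    ⟨_, hUR, hhi⟩ inferInstance (hq.symm ▸ hs) ⟨_, hUq, hqi⟩ hfin le_rfl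

end Groth.Agent.Sandwich
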