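import Groth.Agent.PtBlow.Birat
import Groth.Agent.ModLeray1.Basic
import Groth.Agent.CohQC.Restrict
import Groth.Agent.CohFinite.RPushVanish
import Groth.Agent.H1Triv.Rel

/-!
Vanishing of the first cohomology of point blow-ups over affine opens, and of birational morphisms over
affine opens of a modification.
-/

set_option autoImplicit false
set_option backward.isDefEq.respectTransparency false
set_option backward.isDefEq.respectTransparency.types false
set_option linter.style.haveILetI false
set_option maxHeartbeats 800000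

universe u

open CategoryTheory CategoryTheory.Limits AlgebraicGeometry TopologicalSpace Opposite Groth.Agent.SiteCoh

noncomputable section

namespace Groth.Agent.Sandwich

theorem seq_hu_vanish {Y X : Scheme.{u}} {g : Y ⟶ X} (hg : PtBlow.Seq g) (hi : IsIntegral X)
    (hn : Pi1.IsNormalScheme X) {V : X.Opens} (hV : IsAffineOpen V) :
    Subsingleton (CohSite.HU (Coh.toAb (Coh.structureModule Y)) 1 (g ⁻¹ᵁ V)) := by
  induction hg with
  | id X =>
    haveI : (Coh.structureModule X).IsQuasicoherent := StMod.isQCoh_structureModule X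
    exact CohQC.hu_vanish_of_isAffineOpen _ hV 0
  | @step Y' Z' X' b r z hz hN hb hr ih =>
    haveI := hN
    obtain ⟨hZi, hZn⟩ := hr.integral_normal hi hn
    haveI := hZi
    haveI : IsIntegral Y' := W7Fib.isIntegral_blowUp (PtBlow.pt_ne_bot hz) hb
    haveI := PtBlow.isProper_blowUp hz hb
    haveI := BlowUpLib.isIso_restrict hb
    have hbij := PtBlow.bijective_app_of_birational b hZn (PtBlow.pt hz).support.compl ⟨genericPoint Z', by
      show genericPoint Z' ∉ ((PtBlow.pt hz).support : Set Z')
      rw [PtBlow.coe_support_pt hz]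
      exact PtBlow.genericPoint_ne hz⟩
    exact PtBlow.subsingleton_hu_one_of_push b.base _ (r ⁻¹ᵁ V)
      (PtBlow.locKilled_one_of_cover b.base _ (PtBlow.h1_local hz hb))
      (PtBlow.subsingleton_hu_of_iso (PtBlow.structurePushIso b hbij) 1 _ (ih hi hn hV))

/-- five-term sequence: `H¹` of a dominating modification vanishes over affine opens downstairs. -/
theorem hu_preimage (A : Type u) [CommRing A] [IsNoetherianRing A] {X X' : Scheme.{u}}
    [X.Over (Spec (CommRingCat.of A))] [X'.Over (Spec (CommRingCat.of A))]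
    [IsProper (X ↘ Spec (CommRingCat.of A))] (g : X' ⟶ X)
    (hg : g ≫ (X ↘ Spec (CommRingCat.of A)) = X' ↘ Spec (CommRingCat.of A)) [QuasiCompact g] [QuasiSeparated g]
    (hd : ∀ y, topologicalKrullDim ↥((X ↘ Spec (CommRingCat.of A)).fiber y) ≤ 1)
    (hbij : ∀ V : X.Opens, Function.Bijective (g.app V))
    (h1 : Subsingleton (Coh.HH X' (Coh.structureModule X') 1))
    (B : Set X) (hB : B.Finite) (hBc : ∀ b ∈ B, IsClosed ({b} : Set X))
    (hiso : ∀ U : X.Opens, Disjoint (U : Set X) B → IsIso (g ∣_ U))
    {W : X.Opens} (hW : IsAffineOpen W) :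
    Subsingleton (CohSite.HU (Coh.toAb (Coh.structureModule X')) 1 (g ⁻¹ᵁ W)) := by
  haveI := H1Triv.isNoetherian_of_proper_ring A (X := X)
  haveI : HasInjectiveResolutions X'.Modules := inferInstance
  haveI : EnoughInjectives X'.Modules := inferInstance
  let M := Coh.structureModule X'
  let R := (Coh.Rpush g 1).obj M
  have h2 : Subsingleton (Coh.HH X ((Coh.push g).obj M) 2) := by
    have h := H1Triv.h2_vanish (A := A) hd (Coh.structureModule X) RefStalk.isCoh_structureModule
    have h' : Subsingleton (CohSite.HU (Coh.toAb (Coh.structureModule X)) 2 (⊤ : X.Opens)) :=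
      (huTerminalEquiv (Opens.grothendieckTopology X) isTerminalTop
        (Coh.toAb (Coh.structureModule X)) 2).toEquiv.subsingleton_congr.1 h
    exact (huTerminalEquiv (Opens.grothendieckTopology X) (T := (⊤ : X.Opens)) isTerminalTop
      (Coh.toAb ((Coh.push g).obj M)) 2).toEquiv.subsingleton_congr.2
      (PtBlow.subsingleton_hu_of_iso (PtBlow.structurePushIso g hbij) 2 ⊤ h')
  have hlen := ModLeray1.length_h1_eq A g hg M h2
  rw [(Module.length_eq_zero_iff (R := A) (M := Coh.HH X' M 1)).2 h1] at hlen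
  have h0 : Subsingleton (Coh.HH X R 0) := (Module.length_eq_zero_iff (R := A)).1 (add_eq_zero.1 hlen.symm).2
  haveI htop : Subsingleton Γ(R, ⊤) := (ModLeray1.z0 _).symm.toEquiv.subsingleton_congr.2 h0
  obtain ⟨e⟩ := CohQC.toAb_rpush_iso g M 1
  have hsec : ∀ {V : X.Opens}, IsAffineOpen V →
      Nonempty (Γ(R, V) ≃+ CohSite.HU (Coh.toAb M) 1 (g ⁻¹ᵁ V)) := fun {V} hV => by
    obtain ⟨a⟩ := CohFinite.hu_equiv_sections g M (StMod.isQCoh_structureModule X') hV 1
    exact ⟨(((sheafToPresheaf _ _).mapIso e).app (op V)).addCommGroupIsoToAddEquiv.trans a.symm⟩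
  let O₂ : X.Opens := ⟨(B ∩ W)ᶜ, (by
    have h : IsClosed (B ∩ (W : Set X)) := by
      rw [← Set.biUnion_of_singleton (B ∩ (W : Set X))]
      exact (hB.inter_of_left _).isClosed_biUnion fun b hb => hBc b hb.1
    exact h.isOpen_compl)⟩
  have hzero : ∀ (V : X.Opens), Disjoint (V : Set X) B → ∀ s : Γ(R, V), s = 0 := fun V hV s => by
    refine QC.section_eq_of_locally fun x hx => ?_
    obtain ⟨U, hU, hxU, hUV⟩ := exists_isAffineOpen_mem_and_subset (x := x) (U := V) hx
    haveI : IsIso (g ∣_ U) := hiso U (hV.mono_left hUV)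
    haveI : IsAffine U := hU
    have hUaff : IsAffineOpen (g ⁻¹ᵁ U) := (IsAffine.of_isIso (g ∣_ U) : _)
    haveI : M.IsQuasicoherent := StMod.isQCoh_structureModule X'
    haveI := CohQC.hu_vanish_of_isAffineOpen M hUaff 0
    obtain ⟨a⟩ := hsec hU
    haveI : Subsingleton Γ(R, U) := a.toEquiv.subsingleton
    exact ⟨U, hUV, hxU, Subsingleton.elim _ _⟩
  haveI : Subsingleton Γ(R, W) := subsingleton_of_forall_eq 0 fun s => by
    obtain ⟨t, ht, -⟩ := TopCat.Sheaf.existsUnique_gluing' (QC.abSheaf R) (fun i : Bool => cond i W O₂) ⊤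
      (fun _ => homOfLE le_top)
      (fun x _ => Opens.mem_iSup.2 (by
        by_cases hx : x ∈ W
        · exact ⟨true, hx⟩
        · exact ⟨false, fun h => hx h.2⟩))
      (fun i => match i with | true => s | false => (0 : Γ(R, O₂))) (by
        have hd' : Disjoint ((W ⊓ O₂ : X.Opens) : Set X) B :=
          Set.disjoint_left.2 fun x hx hxB => hx.2 ⟨hxB, hx.1⟩
        have hd'' : Disjoint ((O₂ ⊓ W : X.Opens) : Set X) B :=
          Set.disjoint_left.2 fun x hx hxB => hx.1 ⟨hxB, hx.2⟩
        rintro (_ | _) (_ | _)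
        · rfl
        · exact (hzero _ hd'' _).trans (hzero _ hd'' _).symm
        · exact (hzero _ hd' _).trans (hzero _ hd' _).symm
        · rfl)
    have h := ht true
    rw [@Subsingleton.elim _ htop t 0] at h
    exact h.symm.trans (map_zero _)
  obtain ⟨a⟩ := hsec hW
  exact a.symm.toEquiv.subsingleton

end Groth.Agent.Sandwich
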